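import Mathlib.RingTheory.Localization.Free
import Mathlib.RingTheory.Unramified.Finite
import Mathlib.RingTheory.Unramified.Basic
import Mathlib.RingTheory.Smooth.Fiber
import Mathlib.RingTheory.EssentialFiniteness
import Mathlib.RingTheory.Flat.Localization
import Mathlib.Algebra.Module.LocalizedModule.Submodule
import Mathlib.RingTheory.LocalProperties.Reduced
import Mathlib.RingTheory.RingHom.Flat
import Mathlib.RingTheory.RingHom.Finite

/-!
A formally unramified algebra of finite type over a reduced Noetherian ring is generically finite, and a finite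
algebra is generically free.
-/

set_option autoImplicit false

universe u

namespace Groth.Agent.H14.GenEt.Algebra

variable (B A : Type u) [CommRing B] [CommRing A] [Algebra B A]

theorem exists_minimal [Nontrivial B] : ∃ p : Ideal B, p.IsPrime ∧ p ∈ minimalPrimes B := by
  obtain ⟨m, hm⟩ := Ideal.exists_maximal B
  obtain ⟨p, hp, -⟩ := Ideal.exists_minimalPrimes_le (I := (⊥ : Ideal B)) (J := m) bot_le
  exact ⟨p, hp.1.1, hp⟩

theorem isField_localization [IsReduced B] {p : Ideal B} [p.IsPrime] (hp : p ∈ minimalPrimes B) :
    IsField (Localization.AtPrime p) := by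
  rw [IsLocalRing.isField_iff_maximalIdeal_eq, eq_bot_iff]
  intro x hx
  have hnil : x ∈ nilradical (Localization.AtPrime p) := by
    rw [nilradical_eq_sInf, Submodule.mem_sInf]
    intro q hq
    have := hq.out
    have hle : Ideal.comap (algebraMap B (Localization.AtPrime p)) q ≤ p := by
      exact (Ideal.comap_mono (IsLocalRing.le_maximalIdeal this.ne_top)).trans
        (le_of_eq (Localization.AtPrime.comap_maximalIdeal (I := p)))
    have hge := hp.2 ⟨Ideal.IsPrime.comap _, bot_le⟩ hle
    have e : q = IsLocalRing.maximalIdeal (Localization.AtPrime p) := by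
      rw [← IsLocalization.map_comap p.primeCompl _ q, show Ideal.under B q = p from le_antisymm hle hge,
        Localization.AtPrime.map_eq_maximalIdeal]
    rw [e]; exact hx
  exact (mem_nilradical.1 hnil).eq_zero

theorem not_isNilpotent_of_mem {p : Ideal B} [p.IsPrime] {s : B} (hs : s ∈ p.primeCompl) :
    ¬IsNilpotent s := fun ⟨n, hn⟩ => hs (‹p.IsPrime›.mem_of_pow_mem n (hn ▸ p.zero_mem))

theorem exists_away_finite [IsReduced B] [Nontrivial B] [Algebra.FiniteType B A]
    [Algebra.FormallyUnramified B A] :
    ∃ s : B, ¬IsNilpotent s ∧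
      (IsLocalization.Away.map (Localization.Away s) (Localization.Away (algebraMap B A s))
        (algebraMap B A) s).Finite := by
  classical
  obtain ⟨p, hp, hmin⟩ := exists_minimal B
  let M := p.primeCompl
  let K := Localization.AtPrime p
  let AK := Localization (Algebra.algebraMapSubmonoid A M)
  letI : Field K := (isField_localization B hmin).toField
  have : IsLocalizedModule M (IsScalarTower.toAlgHom B A AK).toLinearMap :=
    (isLocalizedModule_iff_isLocalization).2
      (inferInstanceAs (IsLocalization (Algebra.algebraMapSubmonoid A M)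
        (Localization (Algebra.algebraMapSubmonoid A M))))
  let φ : A →ₗ[B] AK := (IsScalarTower.toAlgHom B A AK).toLinearMap
  have : IsLocalization (Submonoid.map (algebraMap B A) M) AK :=
    inferInstanceAs (IsLocalization (Algebra.algebraMapSubmonoid A M)
      (Localization (Algebra.algebraMapSubmonoid A M)))
  have : Algebra.FormallyUnramified K AK :=
    Algebra.FormallyUnramified.localization_map (R := B) (S := A) M
  have : Algebra.EssFiniteType A AK := Algebra.EssFiniteType.of_isLocalization AK (Algebra.algebraMapSubmonoid A M)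
  have : Algebra.EssFiniteType B AK := Algebra.EssFiniteType.comp B A AK
  have : Algebra.EssFiniteType K AK := Algebra.EssFiniteType.of_comp B K AK
  have hfin : Module.Finite K AK := Algebra.FormallyUnramified.finite_of_free (R := K) (S := AK)
  obtain ⟨t, ht⟩ := hfin.fg_top
  choose c hc using fun x : AK => IsLocalizedModule.surj M φ x
  let e : Finset A := insert 1 (t.image fun x => (c x).1)
  let N : Submodule B A := Submodule.span B (e : Set A)
  have hspan : N.localized' K M φ = ⊤ := by
    rw [eq_top_iff, ← ht, Submodule.span_le]
    intro x hx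
    refine ⟨(c x).1, Submodule.subset_span ?_, (c x).2, ?_⟩
    · simp only [e, Finset.coe_insert, Finset.coe_image]
      exact Or.inr ⟨x, hx, rfl⟩
    · exact (IsLocalizedModule.mk'_eq_iff).2 (hc x).symm
  have hmem : ∀ y : A, ∃ m : M, (m : B) • y ∈ N := fun y => by
    have hy : φ y ∈ N.localized' K M φ := hspan ▸ Submodule.mem_top
    obtain ⟨n, hn, m, hm⟩ := hy
    rw [IsLocalizedModule.mk'_eq_iff, Submonoid.smul_def, ← map_smul] at hm
    obtain ⟨d, hd⟩ := IsLocalizedModule.exists_of_eq (S := M) (f := φ) hm
    refine ⟨d * m, ?_⟩
    rw [Submonoid.coe_mul, mul_smul]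
    have hd' : (d : B) • (m : B) • y = (d : B) • n := hd.symm
    rw [hd']
    exact N.smul_mem _ hn
  choose m hm using hmem
  obtain ⟨g, hg⟩ := (inferInstance : Algebra.FiniteType B A).out
  let s : B := ∏ an ∈ g ×ˢ e, (m (an.1 * an.2) : B)
  have hs : s ∈ M := Submonoid.prod_mem _ fun an _ => (m _).2
  refine ⟨s, not_isNilpotent_of_mem B hs, ?_⟩
  let Bs := Localization.Away s
  let As := Localization.Away (algebraMap B A s)
  letI : Algebra Bs As :=
    (IsLocalization.Away.map Bs As (algebraMap B A) s).toAlgebra
  have htower : IsScalarTower B Bs As := IsScalarTower.of_algebraMap_eq' (by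
    rw [RingHom.algebraMap_toAlgebra, IsLocalization.Away.map, IsLocalization.map_comp,
      IsScalarTower.algebraMap_eq B A As])
  rw [← RingHom.algebraMap_toAlgebra (IsLocalization.Away.map Bs As (algebraMap B A) s),
    RingHom.finite_algebraMap]
  let ψ : A →ₗ[B] As := (IsScalarTower.toAlgHom B A As).toLinearMap
  let Ns : Submodule Bs As := Submodule.span Bs (ψ '' e)
  have hN : ∀ y ∈ N, ψ y ∈ Ns := fun y hy => by
    induction hy using Submodule.span_induction with
    | mem x hx => exact Submodule.subset_span ⟨x, hx, rfl⟩
    | zero => rw [map_zero]; exact Ns.zero_mem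
    | add x y _ _ hx hy => rw [map_add]; exact Ns.add_mem hx hy
    | smul b x _ hx =>
      rw [map_smul, ← IsScalarTower.algebraMap_smul Bs b (ψ x)]
      exact Ns.smul_mem _ hx
  have hu : IsUnit (algebraMap B Bs s) := IsLocalization.Away.algebraMap_isUnit s
  have hga : ∀ a ∈ g, ∀ x ∈ Ns, algebraMap A As a * x ∈ Ns := fun a ha x hx => by
    induction hx using Submodule.span_induction with
    | zero => rw [mul_zero]; exact Ns.zero_mem
    | add x y _ _ hx hy => rw [mul_add]; exact Ns.add_mem hx hy
    | smul b x _ hx => rw [mul_smul_comm]; exact Ns.smul_mem _ hx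
    | mem x hx =>
      obtain ⟨n, hn, rfl⟩ := hx
      have h1 : s • (a * n) ∈ N := by
        have hsplit : s = (∏ an ∈ (g ×ˢ e).erase (a, n), (m (an.1 * an.2) : B)) * m (a * n) :=
          (Finset.prod_erase_mul _ _ (Finset.mem_product.2 ⟨ha, hn⟩)).symm
        rw [hsplit, mul_smul]
        exact N.smul_mem _ (hm _)
      have h2 : algebraMap B Bs s • (algebraMap A As a * ψ n) ∈ Ns := by
        have := hN _ h1
        rw [map_smul, ← IsScalarTower.algebraMap_smul Bs s (ψ (a * n))] at this
        change algebraMap B Bs s • algebraMap A As (a * n) ∈ Ns at this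
        rwa [map_mul] at this
      exact (Ns.smul_mem_iff_of_isUnit hu).1 h2
  have hone : (1 : As) ∈ Ns := by
    refine Submodule.subset_span ⟨1, by simp [e], ?_⟩
    exact map_one (algebraMap A As)
  have hall : ∀ (a : A), ∀ x ∈ Ns, algebraMap A As a * x ∈ Ns := by
    intro a
    have ha : a ∈ Algebra.adjoin B (g : Set A) := hg ▸ Algebra.mem_top
    induction ha using Algebra.adjoin_induction with
    | mem x hx => exact hga x hx
    | algebraMap r =>
      intro x hx
      rw [← IsScalarTower.algebraMap_apply, IsScalarTower.algebraMap_apply B Bs As, ← Algebra.smul_def]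
      exact Ns.smul_mem _ hx
    | add x y _ _ hx hy =>
      intro z hz
      rw [map_add, add_mul]; exact Ns.add_mem (hx z hz) (hy z hz)
    | mul x y _ _ hx hy =>
      intro z hz
      rw [map_mul, mul_assoc]; exact hx _ (hy z hz)
  refine ⟨⟨e.image ψ, ?_⟩⟩
  rw [Finset.coe_image, eq_top_iff]
  intro x _
  obtain ⟨n, a, hxa⟩ : ∃ (n : ℕ) (a : A), x * algebraMap A As (algebraMap B A s) ^ n = algebraMap A As a :=
    IsLocalization.Away.surj (algebraMap B A s) x
  have h1 : algebraMap A As a ∈ Ns := by simpa using hall a 1 hone
  rw [← hxa, ← map_pow, ← map_pow, ← IsScalarTower.algebraMap_apply, IsScalarTower.algebraMap_apply B Bs As,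
    mul_comm, ← Algebra.smul_def, map_pow] at h1
  exact (Ns.smul_mem_iff_of_isUnit (hu.pow n)).1 h1

theorem exists_away_flat [IsReduced B] [Nontrivial B] [IsNoetherianRing B] [Module.Finite B A] :
    ∃ s : B, ¬IsNilpotent s ∧
      (IsLocalization.Away.map (Localization.Away s) (Localization.Away (algebraMap B A s))
        (algebraMap B A) s).Flat := by
  classical
  obtain ⟨p, hp, hmin⟩ := exists_minimal B
  let K := Localization.AtPrime p
  let AK := LocalizedModule p.primeCompl A
  letI : Field K := (isField_localization B hmin).toField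
  have : Module.Free K AK := Module.Free.of_divisionRing K AK
  have : Module.FinitePresentation B A := Module.finitePresentation_of_finite B A
  obtain ⟨s, hs, hfree, -⟩ := Module.FinitePresentation.exists_free_localizedModule_powers
    p.primeCompl (LocalizedModule.mkLinearMap p.primeCompl A) K
  refine ⟨s, not_isNilpotent_of_mem B hs, ?_⟩
  let Bs := Localization.Away s
  let As := Localization.Away (algebraMap B A s)
  letI : Algebra Bs As :=
    (IsLocalization.Away.map Bs As (algebraMap B A) s).toAlgebra
  have htower : IsScalarTower B Bs As := IsScalarTower.of_algebraMap_eq' (by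
    rw [RingHom.algebraMap_toAlgebra, IsLocalization.Away.map, IsLocalization.map_comp,
      IsScalarTower.algebraMap_eq B A As])
  rw [← RingHom.algebraMap_toAlgebra (IsLocalization.Away.map Bs As (algebraMap B A) s),
    RingHom.flat_algebraMap_iff]
  have : IsLocalization (Algebra.algebraMapSubmonoid A (Submonoid.powers s)) As := by
    rw [Algebra.algebraMapSubmonoid, Submonoid.map_powers]; infer_instance
  have : IsLocalizedModule (Submonoid.powers s) (IsScalarTower.toAlgHom B A As).toLinearMap :=
    (isLocalizedModule_iff_isLocalization).2 inferInstance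
  let eqv := (IsLocalizedModule.iso (Submonoid.powers s) (IsScalarTower.toAlgHom B A As).toLinearMap)
  exact Module.Flat.of_linearEquiv (eqv.extendScalarsOfIsLocalization (Submonoid.powers s) Bs).symm

end Groth.Agent.H14.GenEt.Algebra
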