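import Groth.Agent.H14.GenEt.Scheme
import Groth.Agent.H14.Coarse.EtaleInertia
import Groth.Agent.H14.Chart.OpenSub
import Groth.Agent.H14.Chart.LocQ2
import Groth.Agent.H14.Chart.QC2
import Groth.Agent.Lib.AlgStack.Stabilizer
import Groth.Agent.Lib.AlgSpMor.LqfRep

/-!
A reduced irreducible Deligne–Mumford stack of finite type with affine diagonal has finite étale inertia over a
nonempty open substack.
-/

set_option autoImplicit false
set_option backward.isDefEq.respectTransparency false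
set_option backward.isDefEq.respectTransparency.types false

universe u

open CategoryTheory CategoryTheory.Limits AlgebraicGeometry

namespace Groth.Agent.H14.GenEt.Inertia

open Groth.Agent.Lib.AlgStack
open Groth.Agent.H14.Sep Groth.Agent.H14.Chart
open FibCat (IsEquivOver fp fpFst fpSnd fpLift fpIso overCat IsFibGrpd toSelf inertia inertiaToBase InertiaObj selfOver)
open AlgSt (ofSp ofSpMap overMap toOverCat spMapOfOver RepByAlgSp1 RepByAlgSpWith fullSub subIncl)
open AlgSp (Sp yon IsAlgSpace LocP RepWith)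

variable {S : Scheme.{u}} {𝒳 : AlgSt.Cat S}

/-- Representable, finite and étale. -/
abbrev FinEt : MorphismProperty (Sp S) := RepWith @IsFinite ⊓ RepWith @Etale

theorem stableBC_finEt : SpProps.StableBC (FinEt (S := S)) :=
  SpProps.stableBC_inf (SpProps2.stableBC_repWith _) (SpProps2.stableBC_repWith _)

theorem fromSchemes_finEt : SpProps.FromSchemes (FinEt (S := S)) :=
  SpProps.fromSchemes_inf (SpProps2.fromSchemes_repWith _) (SpProps2.fromSchemes_repWith _)

theorem descends_finEt : Cover.Descends (FinEt (S := S)) := fun G T' T γ s hG hs h => by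
  have hT := IsAlgSpace.yon_obj T
  have hT' := IsAlgSpace.yon_obj T'
  obtain ⟨hpr, hq⟩ := Lib.AlgSpMor.MonoLft.props_of_finite hT'
    (Lib.AlgSpMor.AffineDescent.isFiniteMor_iff.2 h.1)
  have hr := Lib.AlgSpMor.LqfRep.representable hG hT (Cover.descends_lqf γ s hG hs hq)
    (Cover.descends_sep γ s hG hs hpr.1)
  have : Sheaf.IsLocallySurjective ((yon S).map s) :=
    Lib.AlgSpace.isLocallySurjective_of_repWith ((AlgSp.repWith_yon_map_iff _ _).2 hs.1)
      ((AlgSp.repWith_yon_map_iff _ _).2 hs.2.1) hs.surj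
  have := Lib.AlgSpMor.AffineDescent.isLocalAtTarget_isFinite.{u}
  have := Lib.AlgSpace.isLocalAtTarget_fppf_etale.{u}
  exact ⟨Lib.AlgSpace.repWith_of_isLocallySurjective hr _ (IsPullback.of_hasPullback γ _) _ h.1,
    Lib.AlgSpace.repWith_of_isLocallySurjective hr _ (IsPullback.of_hasPullback γ _) _ h.2⟩

theorem isFiniteMor_and_isEtaleMor {F G : Sp S} {f : F ⟶ G} (h : FinEt f) :
    (AlgSp.IsFiniteMor ⊓ AlgSp.IsEtaleMor) f := by
  have : MorphismProperty.IsStableUnderComposition (@Etale : MorphismProperty Scheme.{u}) :=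
    ⟨fun f g (_ : Etale f) (_ : Etale g) ↦ inferInstanceAs (Etale (f ≫ g))⟩
  exact ⟨Lib.AlgSpMor.AffineDescent.isFiniteMor_iff.2 h.1,
    fun _ φ hφ => Lib.AlgSpace.repWith_comp hφ h.2⟩

/-- The structure morphism of the source of a smooth functor to the base is smooth. -/
theorem smooth_hom {V : Over S} (y : overCat V ⥤ᵇ selfOver (Over S))
    (hy : RepByAlgSpWith (LocP @Smooth) y) : Smooth V.hom := by
  let k : V ⟶ Over.mk (𝟙 S) := Over.homMk V.hom (Category.comp_id _)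
  have h1 : RepByAlgSpWith (LocP @Smooth) (overMap k) :=
    (Rep.repByAlgSpWith_iff_of_isEquivOver (f := y) (f' := overMap k) BasedBasic.isEquivOver_id
      (IsAlgFp.isEquivOver_toSelf_overCat Over.mkIdTerminal)
      (eqToIso ((QC2.eq_toSelf _).trans (QC2.eq_toSelf _).symm))).1 hy
  have h2 := LocQ.prop_of_rep_overMap (IsAlgFp.respectsIsoSp_locP LocQ.smoothST)
    (IsAlgFp.detected_locP LocQ.smoothST) h1
  exact h2 (𝟙 _) (𝟙 _) k (AlgSp.repWith_id _ _) (AlgSp.repWith_id _ _) (by simp)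

/-- A property of the space of a base change gives it for the functor. -/
theorem rep_of_pullback {P : MorphismProperty (Sp S)} (hP : SpProps.StableBC P) {𝒴 𝒲 : AlgSt.Cat S}
    {d : 𝒲 ⥤ᵇ 𝒴} {T T' : Over S} {z : overCat T ⥤ᵇ 𝒴} {G : AlgSp.Space S}
    {e : ofSp G.obj ⥤ᵇ fp z d} (he : IsEquivOver e) (s : T' ⟶ T)
    (h : P (pullback.snd (spMapOfOver (BasedFunctor.comp e (fpFst z d))) ((yon S).map s))) :
    RepByAlgSpWith P (fpFst (BasedFunctor.comp (overMap s) z) d) := by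
  set γ : G.obj ⟶ (yon S).obj T := spMapOfOver (BasedFunctor.comp e (fpFst z d)) with hγ
  have sq := IsPullback.of_hasPullback γ ((yon S).map s)
  have := BasedBasic.IsEquivOver.full (Rep.isEquivOver_toOverCat T)
  have := BasedBasic.IsEquivOver.faithful (Rep.isEquivOver_toOverCat T)
  have h1 := Space.isEquivOver_sqLift (sq.map (sheafToPresheaf _ _)).flip
  have h2 := FibProd.isEquivOver_fpMap (toOverCat T') e (toOverCat T)
    (F := overMap s) (G := fpFst z d) (F' := ofSpMap ((yon S).map s)) (G' := ofSpMap γ)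
    (Iso.refl _) (Rep.isoSpMapOfOver (BasedFunctor.comp e (fpFst z d)))
    (Rep.isEquivOver_toOverCat T') he
  have hE : RepByAlgSpWith P (ofSpMap (pullback.snd γ ((yon S).map s))) :=
    Descend.repByAlgSpWith_ofSpMap hP
      (Lib.AlgSpace.isAlgSpace_of_isPullback sq (IsAlgSpace.yon_obj T).diag G.property
        (IsAlgSpace.yon_obj T')) (IsAlgSpace.yon_obj T') h
  have hD : RepByAlgSpWith P (fpFst (overMap s) (fpFst z d)) :=
    (Rep.repByAlgSpWith_iff_of_isEquivOver (f := fpFst (overMap s) (fpFst z d))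
      (f' := ofSpMap (pullback.snd γ ((yon S).map s))) (BasedBasic.IsEquivOver.comp h1 h2)
      (Rep.isEquivOver_toOverCat T') (Iso.refl _)).2 hE
  exact (Rep.repByAlgSpWith_iff_of_isEquivOver (f := fpFst (BasedFunctor.comp (overMap s) z) d)
      (f' := fpFst (overMap s) (fpFst z d))
      (Rep.isEquivOver_pasteBase (overMap s) z d) BasedBasic.isEquivOver_id
      (eqToIso (Rep.pasteBase_fst (overMap s) z d).symm)).2 hD

/-- A finite étale pullback of the inertia to a nonempty open of a smooth chart. -/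
theorem exists_chart (h𝒳 : IsFibGrpd 𝒳.p) (hdm : AlgSt.IsDMOver 𝒳)
    (hΔ : RepByAlgSpWith AlgSp.IsAffineMor (FibCat.diag (toSelf 𝒳))) {U : Over S} (x : overCat U ⥤ᵇ 𝒳)
    (hx : RepByAlgSpWith (LocP @Smooth) x) [IsAffine U.left] [IsReduced U.left]
    [IsLocallyNoetherian U.left] [Nonempty U.left] :
    ∃ (T : Over S) (t : overCat T ⥤ᵇ 𝒳), Nonempty T.left ∧ RepByAlgSpWith (LocP @Smooth) t ∧
      RepByAlgSpWith FinEt (fpFst t (inertiaToBase (toSelf 𝒳))) := by
  obtain ⟨G, e, he, hA⟩ := Inertia.inertiaToBase_of_diag hΔ U x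
  have hun := Space.prop_of_rep (IsAlgFp.respectsIsoSp_locP Lib.AlgSpMor.LocP.unramified)
    (Inertia.inertiaToBase_of_diag hdm) G.property he
  set γ : G.obj ⟶ (yon S).obj U := spMapOfOver (BasedFunctor.comp e (fpFst x (inertiaToBase (toSelf 𝒳))))
  obtain ⟨W, i, fst, sqW, hW⟩ := hA (inferInstanceAs (IsAffine U.left)) (𝟙 _)
  have hiu : LocP ((@LocallyOfFiniteType : MorphismProperty Scheme.{u}) ⊓ @FormallyUnramified)
      ((yon S).map i) :=
    SpProps.stableBC_locP Lib.AlgSpMor.LocP.unramified G.property (IsAlgSpace.yon_obj U)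
      (IsAlgSpace.yon_obj W) (IsAlgSpace.yon_obj U) _ _ _ _ sqW hun
  obtain ⟨hft, hfu⟩ := hiu (𝟙 _) (𝟙 _) i (AlgSp.repWith_id _ _) (AlgSp.repWith_id _ _) (by simp)
  obtain ⟨T₀, j, hj, hne, -, hfin, het⟩ := exists_finite_etale i.left
  let T : Over S := Over.mk (j ≫ U.hom)
  let s : T ⟶ U := Over.homMk j rfl
  have hs : Smooth s.left := by
    have : IsOpenImmersion s.left := hj
    infer_instance
  refine ⟨T, BasedFunctor.comp (overMap s) x, hne,
    IsAlgFp.comp_locP LocQ.smoothST (Yoneda.isFibGrpd_overCat T) (Yoneda.isFibGrpd_overCat U)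
      (Basic.rep_overMap_locP s LocQ.smoothST hs) hx,
    rep_of_pullback stableBC_finEt he s ?_⟩
  have sqp := IsPullback.of_hasPullback i s
  have sq1 := (sqp.map (yon S)).paste_horiz sqW
  rw [Category.comp_id] at sq1
  have sq := IsPullback.of_hasPullback γ ((yon S).map s)
  let L := sq.lift ((yon S).map (pullback.fst i s) ≫ fst) ((yon S).map (pullback.snd i s)) sq1.w
  have sq2 : IsPullback L ((yon S).map (pullback.snd i s)) (pullback.snd γ ((yon S).map s)) (𝟙 _) :=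
    IsPullback.of_right (by rw [Category.id_comp, sq.lift_fst]; exact sq1) (by
      rw [sq.lift_snd, Category.comp_id]) sq
  have := sq2.isIso_fst_of_isIso
  have sq3 : IsPullback (inv L) (pullback.snd γ ((yon S).map s)) ((yon S).map (pullback.snd i s)) (𝟙 _) :=
    IsPullback.of_horiz_isIso ⟨by rw [Category.comp_id, IsIso.inv_comp_eq, sq2.w, Category.comp_id]⟩
  have sqF := sqp.map (Over.forget S)
  refine ⟨Lib.AlgSpace.repWith_baseChange sq3 ((AlgSp.repWith_yon_map_iff _ _).2 ?_),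
    Lib.AlgSpace.repWith_baseChange sq3 ((AlgSp.repWith_yon_map_iff _ _).2 ?_)⟩
  · show IsFinite ((Over.forget S).map (pullback.snd i s))
    rw [← sqF.isoPullback_hom_snd]
    exact MorphismProperty.RespectsIso.precomp (@IsFinite : MorphismProperty Scheme.{u}) _ _ hfin
  · show Etale ((Over.forget S).map (pullback.snd i s))
    rw [← sqF.isoPullback_hom_snd]
    exact MorphismProperty.RespectsIso.precomp (@Etale : MorphismProperty Scheme.{u}) _ _ het

/-- The inertia of a full substack is the pulled back inertia. -/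
theorem isEquivOver_inertia_sub (Q : 𝒳.obj → Prop) :
    IsEquivOver (fpLift (inertiaToBase (toSelf (fullSub 𝒳 Q))) (Coarse.EtaleInertia.mapInertia (subIncl 𝒳 Q))
      (Iso.refl (BasedFunctor.comp (inertiaToBase (toSelf (fullSub 𝒳 Q))) (subIncl 𝒳 Q))) :
      inertia (toSelf (fullSub 𝒳 Q)) ⥤ᵇ fp (subIncl 𝒳 Q) (inertiaToBase (toSelf 𝒳))) := by
  set E := (fpLift (inertiaToBase (toSelf (fullSub 𝒳 Q))) (Coarse.EtaleInertia.mapInertia (subIncl 𝒳 Q))
      (Iso.refl (BasedFunctor.comp (inertiaToBase (toSelf (fullSub 𝒳 Q))) (subIncl 𝒳 Q))) :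
      inertia (toSelf (fullSub 𝒳 Q)) ⥤ᵇ fp (subIncl 𝒳 Q) (inertiaToBase (toSelf 𝒳)))
  have : E.toFunctor.Faithful := ⟨fun {a b φ ψ} h => InertiaObj.hom_ext
    (congrArg (fun m => m.hom.fst) h)⟩
  have : E.toFunctor.Full := ⟨fun {a b} m => by
    have w1 : m.hom.fst.hom ≫ 𝟙 _ = 𝟙 _ ≫ m.hom.snd.hom := Lib.Fibred.Fp.w m
    have e' : m.hom.fst.hom = m.hom.snd.hom :=
      (Category.comp_id _).symm.trans (w1.trans (Category.id_comp _))
    refine ⟨⟨m.hom.fst, ObjectProperty.hom_ext _ ?_⟩, Lib.Fibred.Fp.hom_ext rfl (InertiaObj.hom_ext e')⟩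
    change a.aut.hom.hom ≫ m.hom.fst.hom = m.hom.fst.hom ≫ b.aut.hom.hom
    rw [e']
    exact m.hom.snd.comm⟩
  refine BasedBasic.isEquivOver_of E fun η => ?_
  obtain ⟨⟨a, ⟨pt, aut, haut⟩, i⟩, hi⟩ := η
  have hi' : 𝒳.p.IsHomLift (𝟙 ((fullSub 𝒳 Q).p.obj a)) i.hom := hi
  let α : a ≅ a := ObjectProperty.isoMk _ (i ≪≫ aut ≪≫ i.symm)
  have hα : (toSelf (fullSub 𝒳 Q)).map α.hom = 𝟙 _ := by
    change 𝒳.p.map (i.hom ≫ aut.hom ≫ i.inv) = 𝟙 _
    have h0 : 𝒳.p.map aut.hom = 𝟙 _ := haut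
    rw [𝒳.p.map_comp, 𝒳.p.map_comp, h0]
    erw [Category.id_comp]
    rw [← 𝒳.p.map_comp, i.hom_inv_id, 𝒳.p.map_id]
  let n₂ : (⟨a.obj, i ≪≫ aut ≪≫ i.symm, hα⟩ : InertiaObj (toSelf 𝒳)) ≅ ⟨pt, aut, haut⟩ :=
    { hom := ⟨i.hom, by simp⟩
      inv := ⟨i.inv, by simp⟩
      hom_inv_id := InertiaObj.hom_ext i.hom_inv_id
      inv_hom_id := InertiaObj.hom_ext i.inv_hom_id }
  refine ⟨⟨a, α, hα⟩, Lib.Fibred.Fp.isoMk (Iso.refl a) n₂ ?_, ?_⟩
  · change (subIncl 𝒳 Q).map (𝟙 a) ≫ i.hom = 𝟙 _ ≫ i.hom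
    rw [(subIncl 𝒳 Q).toFunctor.map_id]
  · exact (Lib.Fibred.Fp.isHomLift_iff _ _).2 (IsHomLift.id rfl)

/-- A nonempty open substack has finite étale inertia. -/
theorem exists_openImm {B : CommRingCat.{u}} [IsNoetherianRing B] {𝒳 : AlgSt.Cat (Spec B)}
    (h𝒳 : IsFibGrpd 𝒳.p) (hdm : AlgSt.IsDMOver 𝒳)
    (hft : AlgSt.LocQ (LocP @LocallyOfFiniteType) (toSelf 𝒳))
    (hΔ : RepByAlgSpWith AlgSp.IsAffineMor (FibCat.diag (toSelf 𝒳)))
    (hred : AlgSt.SmoothLocally (fun T => IsReduced T) 𝒳) (hne : Nonempty (AlgSt.Points 𝒳)) :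
    ∃ (𝒰 : AlgSt.Cat (Spec B)) (j : 𝒰 ⥤ᵇ 𝒳), AlgSt.IsOpenImm j ∧ Nonempty (AlgSt.Points 𝒰) ∧
      RepByAlgSpWith (AlgSp.IsFiniteMor ⊓ AlgSp.IsEtaleMor) (inertiaToBase (toSelf 𝒰)) := by
  obtain ⟨U₀, V₀, x₀, y₀, h₀, -, hx₀, hxs₀, hy₀, hh₀⟩ := hft
  have hV := smooth_hom y₀ hy₀
  have hh : LocallyOfFiniteType h₀.left :=
    hh₀ (𝟙 _) (𝟙 _) h₀ (AlgSp.repWith_id _ _) (AlgSp.repWith_id _ _) (by simp)
  have : LocallyOfFiniteType U₀.hom := by rw [← Over.w h₀]; infer_instance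
  have : IsLocallyNoetherian U₀.left := LocallyOfFiniteType.isLocallyNoetherian U₀.hom
  have : IsReduced U₀.left := hred U₀ x₀ hx₀
  obtain ⟨p⟩ := hne
  obtain ⟨u₀, -⟩ := Points.surjective_ofChart h𝒳 hxs₀ p
  obtain ⟨O, hO, huO, -⟩ := exists_isAffineOpen_mem_and_subset (X := U₀.left) (x := u₀) (U := ⊤) trivial
  let U : Over (Spec B) := Over.mk (O.ι ≫ U₀.hom)
  let o : U ⟶ U₀ := Over.homMk O.ι rfl
  have : IsAffine U.left := hO
  have : IsReduced U.left := isReduced_of_isOpenImmersion O.ι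
  have : IsLocallyNoetherian U.left := isLocallyNoetherian_of_isOpenImmersion O.ι
  have : Nonempty U.left := ⟨⟨u₀, huO⟩⟩
  have ho : Smooth o.left := inferInstanceAs (Smooth O.ι)
  obtain ⟨T, t, ⟨t₀⟩, ht, hF⟩ := exists_chart h𝒳 hdm hΔ (BasedFunctor.comp (overMap o) x₀)
    (IsAlgFp.comp_locP LocQ.smoothST (Yoneda.isFibGrpd_overCat U) (Yoneda.isFibGrpd_overCat U₀)
      (Basic.rep_overMap_locP o LocQ.smoothST ho) hx₀)
  let W : Set (AlgSt.Points 𝒳) := Set.range (AlgSt.Points.ofChart t)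
  have hWo : ∀ {V : Over (Spec B)} (y : overCat V ⥤ᵇ 𝒳), IsOpen (AlgSt.Points.ofChart y ⁻¹' W) :=
    fun y => by
      have := Points.isOpen_preimage_image h𝒳 ht y isOpen_univ
      rwa [Set.image_univ] at this
  let Q := OpenSub.sub h𝒳 W
  refine ⟨fullSub 𝒳 Q, subIncl 𝒳 Q, fun V y => ?_, ?_, ?_⟩
  · obtain ⟨V', j, hj, E, hE, hEj, -⟩ := OpenSub.exists_fp_equiv h𝒳 y (hWo y)
    refine ⟨(AlgSp.ofScheme (Spec B)).obj V', BasedFunctor.comp (toOverCat V') E,
      BasedBasic.IsEquivOver.comp (Rep.isEquivOver_toOverCat V') hE, ?_⟩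
    have : spMapOfOver (BasedFunctor.comp (BasedFunctor.comp (toOverCat V') E)
        (fpFst y (subIncl 𝒳 Q))) = (yon (Spec B)).map j := by
      rw [← Points.spMap_toOverCat_overMap j, ← hEj]
      rfl
    rw [this]
    exact (AlgSp.repWith_yon_map_iff _ _).2 hj
  · have hp : AlgSt.Points.ofChart t t₀ ∈ Set.range (AlgSt.Points.map (subIncl 𝒳 Q)) := by
      rw [OpenSub.range_map_sub]; exact ⟨t₀, rfl⟩
    obtain ⟨q, -⟩ := hp
    exact ⟨q⟩
  · refine Rep.repByAlgSpWith_mono (P := FinEt) ?_ fun _ _ _ _ _ h => isFiniteMor_and_isEtaleMor h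
    have key : RepByAlgSpWith FinEt (fpFst (subIncl 𝒳 Q) (inertiaToBase (toSelf 𝒳))) := by
      have hr : RepByAlgSp1 (fpFst (subIncl 𝒳 Q) (inertiaToBase (toSelf 𝒳))) :=
        Rep.repByAlgSp1_of_repByAlgSpWith
          (Rep.repByAlgSpWith_fpFst _ (Inertia.inertiaToBase_of_diag hΔ))
      refine Cover.rep_descend stableBC_finEt fromSchemes_finEt descends_finEt hr fun V z => ?_
      obtain ⟨V', s, v, hs, ⟨β⟩, hhit⟩ :=
        Points.exists_chart_square t (BasedFunctor.comp z (subIncl 𝒳 Q)) h𝒳 ht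
      have hsurj : Surjective s.left := ⟨fun a => by
        have : AlgSt.Points.ofChart (BasedFunctor.comp z (subIncl 𝒳 Q)) a ∈ W := by
          rw [← OpenSub.range_map_sub h𝒳 W]
          exact ⟨_, Points.map_ofChart _ z a⟩
        obtain ⟨b, hb⟩ := this
        obtain ⟨c, hc, -⟩ := hhit a b hb.symm
        exact ⟨c, hc⟩⟩
      have := hs
      refine ⟨V', s, ⟨inferInstance, inferInstance, hsurj⟩, ?_⟩
      have h1 : RepByAlgSpWith FinEt (fpFst (BasedFunctor.comp (overMap v) t) (inertiaToBase (toSelf 𝒳))) :=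
        (Rep.repByAlgSpWith_iff_of_isEquivOver
          (f := fpFst (BasedFunctor.comp (overMap v) t) (inertiaToBase (toSelf 𝒳)))
          (f' := fpFst (overMap v) (fpFst t (inertiaToBase (toSelf 𝒳))))
          (Rep.isEquivOver_pasteBase (overMap v) t _) BasedBasic.isEquivOver_id
          (eqToIso (Rep.pasteBase_fst (overMap v) t _).symm)).2 (Rep.repByAlgSpWith_fpFst _ hF)
      have h2 : RepByAlgSpWith FinEt
          (fpFst (BasedFunctor.comp (BasedFunctor.comp (Lft.vOf s) z) (subIncl 𝒳 Q))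
            (inertiaToBase (toSelf 𝒳))) :=
        (Rep.repByAlgSpWith_iff_of_isEquivOver
          (f := fpFst (BasedFunctor.comp (BasedFunctor.comp (Lft.vOf s) z) (subIncl 𝒳 Q))
            (inertiaToBase (toSelf 𝒳)))
          (f' := fpFst (BasedFunctor.comp (overMap v) t) (inertiaToBase (toSelf 𝒳)))
          (FibProd.isEquivOver_congrLeft β.symm _) BasedBasic.isEquivOver_id
          (eqToIso (FibProd.congrLeft_fst β.symm _).symm)).2 h1
      exact (Rep.repByAlgSpWith_iff_of_isEquivOver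
          (f := fpFst (BasedFunctor.comp (BasedFunctor.comp (Lft.vOf s) z) (subIncl 𝒳 Q))
            (inertiaToBase (toSelf 𝒳)))
          (f' := fpFst (BasedFunctor.comp (Lft.vOf s) z) (fpFst (subIncl 𝒳 Q) (inertiaToBase (toSelf 𝒳))))
          (Rep.isEquivOver_pasteBase (BasedFunctor.comp (Lft.vOf s) z) (subIncl 𝒳 Q) _)
          BasedBasic.isEquivOver_id
          (eqToIso (Rep.pasteBase_fst (BasedFunctor.comp (Lft.vOf s) z) (subIncl 𝒳 Q) _).symm)).1 h2
    exact (Rep.repByAlgSpWith_iff_of_isEquivOver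
      (f := fpFst (subIncl 𝒳 Q) (inertiaToBase (toSelf 𝒳)))
      (f' := inertiaToBase (toSelf (fullSub 𝒳 Q))) (isEquivOver_inertia_sub Q)
      BasedBasic.isEquivOver_id (Iso.refl _)).1 key

end Groth.Agent.H14.GenEt.Inertia
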