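import Groth.Agent.H14.GenEt.Algebra
import Mathlib.AlgebraicGeometry.Morphisms.Etale
import Mathlib.AlgebraicGeometry.Morphisms.Finite
import Mathlib.AlgebraicGeometry.Morphisms.Flat
import Mathlib.AlgebraicGeometry.Morphisms.FormallyUnramified
import Mathlib.Algebra.Category.Ring.Constructions
import Mathlib.AlgebraicGeometry.Noetherian

/-!
An unramified affine morphism of finite type to a reduced Noetherian affine scheme is finite étale over a
nonempty open subscheme.
-/

set_option autoImplicit false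

universe u

open CategoryTheory CategoryTheory.Limits AlgebraicGeometry

namespace Groth.Agent.H14.GenEt

theorem exists_piece {X Y : Scheme.{u}} [IsAffine X] [IsAffine Y] (f : X ⟶ Y) {s : Γ(Y, ⊤)}
    (hs : ¬IsNilpotent s) :
    ∃ (T P : Scheme.{u}) (j : T ⟶ Y) (fst : P ⟶ X) (snd : P ⟶ T),
      IsPullback fst snd f j ∧ IsOpenImmersion j ∧ Nonempty T ∧ IsAffine T ∧ IsAffine P ∧
      ((IsLocalization.Away.map (Localization.Away s)
          (Localization.Away (f.appTop.hom s)) f.appTop.hom s).Finite → IsFinite snd) ∧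
      ((IsLocalization.Away.map (Localization.Away s)
          (Localization.Away (f.appTop.hom s)) f.appTop.hom s).Flat → Flat snd) := by
  let Ys := Localization.Away s
  let Xs := Localization.Away (f.appTop.hom s)
  let fs : Ys →+* Xs := IsLocalization.Away.map Ys Xs f.appTop.hom s
  have : IsLocalization ((Submonoid.powers s).map f.appTop.hom) Xs := by
    rw [Submonoid.map_powers]; infer_instance
  have hpo := CommRingCat.isPushout_of_isLocalization (Rₘ := Ys) (Sₘ := Xs) f.appTop.hom fs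
    (IsLocalization.map_comp _) (Submonoid.powers s)
  have sq := isPullback_SpecMap_of_isPushout _ _ _ _ hpo
  refine ⟨Spec (CommRingCat.of Ys), Spec (CommRingCat.of Xs),
    Spec.map (CommRingCat.ofHom (algebraMap Γ(Y, ⊤) Ys)) ≫ Y.isoSpec.inv,
    Spec.map (CommRingCat.ofHom (algebraMap Γ(X, ⊤) Xs)) ≫ X.isoSpec.inv,
    Spec.map (CommRingCat.ofHom fs), ?_, ?_, ?_, inferInstance, inferInstance,
    fun hq => (IsFinite.SpecMap_iff _).2 hq, fun hq => HasRingHomProperty.Spec_iff.mpr hq⟩
  · refine sq.paste_horiz (IsPullback.of_horiz_isIso ⟨?_⟩)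
    exact (Scheme.isoSpec_inv_naturality f).symm
  · have := IsOpenImmersion.of_isLocalization (S := Ys) s
    infer_instance
  · have : Nontrivial Ys := by
      by_contra hn
      rw [not_nontrivial_iff_subsingleton] at hn
      exact hs (by
        obtain ⟨c, hc⟩ := (IsLocalization.map_eq_zero_iff (Submonoid.powers s) Ys (1 : Γ(Y, ⊤))).1
          (Subsingleton.elim _ _)
        obtain ⟨n, hn'⟩ := c.2
        exact ⟨n, by simpa [← hn'] using hc⟩)
    exact inferInstanceAs (Nonempty (PrimeSpectrum Ys))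

theorem exists_finite_etale {X Y : Scheme.{u}} [IsAffine X] [IsAffine Y] [IsReduced Y]
    [IsLocallyNoetherian Y] [Nonempty Y] (f : X ⟶ Y) [LocallyOfFiniteType f] [FormallyUnramified f] :
    ∃ (T : Scheme.{u}) (j : T ⟶ Y), IsOpenImmersion j ∧ Nonempty T ∧ IsAffine T ∧
      IsFinite (pullback.snd f j) ∧ Etale (pullback.snd f j) := by
  have : IsNoetherianRing Γ(Y, ⊤) := IsLocallyNoetherian.component_noetherian ⟨⊤, isAffineOpen_top Y⟩
  have : Nontrivial Γ(Y, ⊤) := by
    have : Nonempty (PrimeSpectrum Γ(Y, ⊤)) := (inferInstance : Nonempty Y).map (Scheme.isoSpec Y).hom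
    exact PrimeSpectrum.nonempty_iff_nontrivial.1 this
  algebraize [f.appTop.hom]
  have : Algebra.FiniteType Γ(Y, ⊤) Γ(X, ⊤) := RingHom.finiteType_algebraMap.1
    ((HasRingHomProperty.iff_of_isAffine (P := @LocallyOfFiniteType)).1 inferInstance)
  have : Algebra.FormallyUnramified Γ(Y, ⊤) Γ(X, ⊤) := RingHom.formallyUnramified_algebraMap.1
    ((HasRingHomProperty.iff_of_isAffine (P := @FormallyUnramified)).1 inferInstance)
  obtain ⟨s, hs, hfin⟩ := Algebra.exists_away_finite Γ(Y, ⊤) Γ(X, ⊤)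
  obtain ⟨T₁, P₁, j₁, fst₁, snd₁, sq₁, hj₁, hT₁, haT₁, haP₁, hfin₁, -⟩ := exists_piece f hs
  have hf₁ : IsFinite snd₁ := hfin₁ hfin
  have : IsLocallyNoetherian T₁ := isLocallyNoetherian_of_isOpenImmersion j₁
  have : IsReduced T₁ := isReduced_of_isOpenImmersion j₁
  have : IsNoetherianRing Γ(T₁, ⊤) := IsLocallyNoetherian.component_noetherian ⟨⊤, isAffineOpen_top T₁⟩
  have : Nontrivial Γ(T₁, ⊤) := by
    have : Nonempty (PrimeSpectrum Γ(T₁, ⊤)) := (inferInstance : Nonempty T₁).map (Scheme.isoSpec T₁).hom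
    exact PrimeSpectrum.nonempty_iff_nontrivial.1 this
  algebraize [snd₁.appTop.hom]
  have : Module.Finite Γ(T₁, ⊤) Γ(P₁, ⊤) := RingHom.finite_algebraMap.1
    (snd₁.finite_app ⊤ (isAffineOpen_top _))
  obtain ⟨r, hr, hflat⟩ := Algebra.exists_away_flat Γ(T₁, ⊤) Γ(P₁, ⊤)
  obtain ⟨T₂, P₂, j₂, fst₂, snd₂, sq₂, hj₂, hT₂, haT₂, haP₂, -, hfl₂⟩ := exists_piece snd₁ hr
  have hflat₂ : Flat snd₂ := hfl₂ hflat
  have hfin₂ : IsFinite snd₂ := MorphismProperty.of_isPullback sq₂ hf₁
  have sq := sq₂.paste_horiz sq₁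
  have : FormallyUnramified snd₂ := MorphismProperty.of_isPullback sq ‹FormallyUnramified f›
  have : LocallyOfFiniteType snd₂ := MorphismProperty.of_isPullback sq ‹LocallyOfFiniteType f›
  have : IsLocallyNoetherian T₂ := isLocallyNoetherian_of_isOpenImmersion j₂
  have : LocallyOfFinitePresentation snd₂ :=
    LocallyOfFinitePresentation.iff_locallyOfFiniteType.2 inferInstance
  have het : Etale snd₂ := Etale.of_formallyUnramified_of_flat _
  refine ⟨T₂, j₂ ≫ j₁, inferInstance, hT₂, haT₂, ?_, ?_⟩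
  · rw [← sq.isoPullback_inv_snd]; infer_instance
  · rw [← sq.isoPullback_inv_snd]; infer_instance

end Groth.Agent.H14.GenEt
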